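import Cfsg.Agent.SmallOrder.PrimeTest
import Cfsg.Agent.SmallOrder.Special6232
import Cfsg.Agent.BlockThms.DefectZero

/-!
# Order 5616: the principal block at thirteen
-/

set_option autoImplicit false
set_option maxRecDepth 4000
set_option synthInstance.maxSize 5000

namespace Cfsg.Agent.SmallOrder.Order5616

open Subgroup
open scoped ComplexConjugate

universe u

section General

variable {G : Type u} [Group G] [Fintype G]

/-- A property of the conjugate of `x` by `a` holds for a multiple of `|C(x)|` elements `a`. -/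
theorem exists_card_conj_eq (x : G) (p : G → Prop) :
    ∃ m : ℕ, Nat.card {a : G // p (a * x * a⁻¹)} = Nat.card (centralizer ({x} : Set G)) * m := by
  classical
  set C := centralizer ({x} : Set G)
  refine ⟨Nat.card {q : G ⧸ C // p (q.out * x * q.out⁻¹)}, ?_⟩
  have hout : ∀ a : G, ((a : G ⧸ C).out * x * (a : G ⧸ C).out⁻¹) = a * x * a⁻¹ := fun a => by
    obtain ⟨c, hc⟩ := QuotientGroup.mk_out_eq_mul C a
    rw [hc]
    calc a * c * x * (a * c)⁻¹ = a * ((c : G) * x) * (c : G)⁻¹ * a⁻¹ := by group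
      _ = a * x * a⁻¹ := by rw [mem_centralizer_singleton_iff.1 c.2]; group
  rw [← Nat.card_prod]
  refine (Nat.card_congr (Equiv.subtypeEquivRight fun a => ?_)).trans
    (Nat.card_congr (QuotientGroup.preimageMkEquivSubgroupProdSet C
      {q : G ⧸ C | p (q.out * x * q.out⁻¹)}))
  show p (a * x * a⁻¹) ↔ p ((a : G ⧸ C).out * x * (a : G ⧸ C).out⁻¹)
  rw [hout]

/-- The class multiplication formula. -/
theorem mult_formula (x y w : G) :
    ∃ m : ℕ, (Nat.card G : ℂ) * ∑ χ : IrrCharacter G,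
        (χ : G → ℂ) x * (χ : G → ℂ) y * conj ((χ : G → ℂ) w) / (χ : G → ℂ) 1 =
          (Nat.card (centralizer ({w} : Set G)) : ℂ) *
            ((Nat.card (centralizer ({x} : Set G)) : ℂ) * (m : ℂ)) ∧
      (m ≠ 0 → ∃ a : G, IsConj (a * x * a⁻¹ * y) w) := by
  classical
  obtain ⟨m, hm⟩ := exists_card_conj_eq x fun g => IsConj (g * y) w
  refine ⟨m, ?_, fun h0 => ?_⟩
  · have e : ∀ χ : IrrCharacter G,
        (Nat.card G : ℂ) * ((χ : G → ℂ) x * (χ : G → ℂ) y * conj ((χ : G → ℂ) w) / (χ : G → ℂ) 1) =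
          ∑ a, (χ : G → ℂ) (a * x * a⁻¹ * y) * conj ((χ : G → ℂ) w) := fun χ => by
      have h := CharArith.classMult χ.2 x y
      have h1 := Char.IsIrr.one_ne_zero χ.2
      rw [← Finset.sum_mul]
      field_simp
      linear_combination -(conj ((χ : G → ℂ) w)) * h
    rw [Finset.mul_sum, Finset.sum_congr rfl fun χ _ => e χ, Finset.sum_comm]
    have hrow : ∀ a : G, ∑ χ : IrrCharacter G, (χ : G → ℂ) (a * x * a⁻¹ * y) * conj ((χ : G → ℂ) w) =
        if IsConj (a * x * a⁻¹ * y) w then (Nat.card (centralizer ({w} : Set G)) : ℂ) else 0 := by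
      intro a
      split_ifs with h
      · have h2 := Char.second_orthogonality w w
        rw [if_pos (IsConj.refl w)] at h2
        rw [← h2]
        refine Finset.sum_congr rfl fun χ _ => ?_
        congr 1
        obtain ⟨c, hc⟩ := isConj_iff.1 h
        rw [← hc]
        exact (Char.isClassFunction_of_isIrr χ.2 _ _).symm
      · rw [Char.second_orthogonality, if_neg h]
    rw [Finset.sum_congr rfl fun a _ => hrow a, ← Finset.sum_filter, Finset.sum_const, nsmul_eq_mul,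
      show (Finset.univ.filter fun a : G => IsConj (a * x * a⁻¹ * y) w).card =
        Nat.card (centralizer ({x} : Set G)) * m by
        rw [← hm, Nat.card_eq_fintype_card, Fintype.card_subtype]]
    push_cast
    ring
  · have : Nat.card {a : G // IsConj (a * x * a⁻¹ * y) w} ≠ 0 := by
      rw [hm]; exact Nat.mul_ne_zero Nat.card_pos.ne' h0
    obtain ⟨⟨⟨a, ha⟩⟩, -⟩ := Nat.card_ne_zero.1 this
    exact ⟨a, ha⟩

/-- Some squares of absolute values in a column are at most the order of the centraliser. -/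
theorem column_le (g : G) (T : Finset (IrrCharacter G)) :
    ∑ χ ∈ T, Complex.normSq ((χ : G → ℂ) g) ≤ (Nat.card (centralizer ({g} : Set G)) : ℝ) := by
  have h := Char.second_orthogonality g g
  rw [if_pos (IsConj.refl g)] at h
  simp only [Complex.mul_conj] at h
  have h' : ∑ χ : IrrCharacter G, Complex.normSq ((χ : G → ℂ) g) =
      (Nat.card (centralizer ({g} : Set G)) : ℝ) := by exact_mod_cast h
  rw [← h']
  exact Finset.sum_le_sum_of_subset_of_nonneg (Finset.subset_univ T)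
    fun _ _ _ => Complex.normSq_nonneg _

end General

theorem deg_check : ∀ d : ℕ, d < 75 → 2 ≤ d → d ∣ 5616 → ¬ 13 ∣ d →
    (((d : ℤ) % 13 = 1 → d = 27) ∧ ((d : ℤ) % 13 = 12 → d = 12)) := by
  decide +kernel

theorem y_check : ∀ y : ℕ, y < 75 → 2 ≤ y → y ∣ 5616 → y ≠ 23 ∧ y ≠ 55 := by decide +kernel

/-- The principal block at thirteen of a simple group of order 5616. -/
structure Data (G : Type u) [Group G] [Fintype G] where
  z : G
  hz : orderOf z = 13
  hzC : Nat.card (centralizer ({z} : Set G)) = 13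
  noinv : ∀ u : G, orderOf u = 2 → u * z * u⁻¹ ≠ z⁻¹
  A : IrrCharacter G
  B : IrrCharacter G
  W : IrrCharacter G
  hA1 : (A : G → ℂ) 1 = 27
  hB1 : (B : G → ℂ) 1 = 12
  hW1 : (W : G → ℂ) 1 = 16
  hrel : ∀ g : G, ¬ 13 ∣ orderOf g →
    (W : G → ℂ) g = 1 + (A : G → ℂ) g - (B : G → ℂ) g
  hzz : ∀ g : G, ¬ 13 ∣ orderOf g →
    ∑ χ : IrrCharacter G, (χ : G → ℂ) g * (χ : G → ℂ) z * conj ((χ : G → ℂ) z) / (χ : G → ℂ) 1 =
      1 + (A : G → ℂ) g / 27 + (B : G → ℂ) g / 12 + 10 * ((W : G → ℂ) g) / 16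
  hone : ∀ g w : G, ¬ 13 ∣ orderOf g → ¬ 13 ∣ orderOf w →
    ∑ χ : IrrCharacter G, (χ : G → ℂ) g * (χ : G → ℂ) z * conj ((χ : G → ℂ) w) / (χ : G → ℂ) 1 =
      1 + (A : G → ℂ) g * conj ((A : G → ℂ) w) / 27 - (B : G → ℂ) g * conj ((B : G → ℂ) w) / 12
        - (W : G → ℂ) g * conj ((W : G → ℂ) w) / 16
  hcol : ∀ g : G, ¬ 13 ∣ orderOf g →
    1 + Complex.normSq ((A : G → ℂ) g) + Complex.normSq ((B : G → ℂ) g) +
      4 * Complex.normSq ((W : G → ℂ) g) ≤ (Nat.card (centralizer ({g} : Set G)) : ℝ)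

variable {G : Type u} [Group G] [Fintype G] [IsSimpleGroup G]

open Cfsg.Agent.Blocks in
theorem exists_data (hna : ¬ IsMulCommutative G) (h : Nat.card G = 5616) :
    Nonempty (Data G) := by
  classical
  have : Fact (Nat.Prime 13) := ⟨by norm_num⟩
  obtain ⟨P⟩ : Nonempty (Sylow 13 G) := Sylow.nonempty
  have hPc := (card_sylow_eq_pow (a := 1) (m := 432) (by rw [h]; norm_num) (by norm_num) P).trans
    (pow_one 13)
  have hsc := BlockThms.sylow_self_centralizing (G := G) 2 3 13 4 3 Nat.prime_two Nat.prime_three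
    (by norm_num) (by norm_num) (by rw [h]; norm_num) P
  have hC : Nat.card (centralizer ((P : Subgroup G) : Set G)) = 13 := by
    rw [show centralizer ((P : Subgroup G) : Set G) = (P : Subgroup G) from hsc, hPc]
  obtain ⟨x, hx, -, hCx, hN⟩ := of_survivorsIn hna h (by norm_num) (by norm_num) (by norm_num)
    (by norm_num) (S := [(11, 3)]) (by decide +kernel) P
  rw [List.mem_singleton.1 hx] at hN
  dsimp only at hN
  norm_num1 at hN
  obtain ⟨e, he⟩ : ∃ e, (centralizer (P : Set G)).relIndex (normalizer (P : Set G)) = e := ⟨_, rfl⟩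
  have hS : BlockThms.OrderP.Setup P e := ⟨hPc, he⟩
  have he3 : e = 3 := by
    have h1 := hS.card_normalizer
    rw [show Nat.card (centralizer (P : Set G)) = 13 from hC,
      show Nat.card (normalizer (P : Set G)) = 39 from hN] at h1
    omega
  subst he3
  obtain ⟨M, hM⟩ := Blocks.exists_isPModular 13 (Fact.out : Nat.Prime 13)
  obtain ⟨X, Y, a, s, hdisj, hXc, hYc, hmem, hs, hX, hY, hYeq, hrel⟩ := hS.principal_structure hM
  norm_num at hYc
  obtain ⟨z, hz, hz1, hzo⟩ := hS.exists_gen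
  have hzC : Nat.card (centralizer ({z} : Set G)) = 13 := by
    rw [hS.centralizer_eq hz hz1]; exact hC
  have hnoinv : ∀ u : G, orderOf u = 2 → u * z * u⁻¹ ≠ z⁻¹ := by
    intro u hu hinv
    have huu : u * u = 1 := by
      have := pow_orderOf_eq_one u
      rwa [hu, sq] at this
    have hu' : u⁻¹ = u := inv_eq_of_mul_eq_one_right huu
    have hmemN : u ∈ normalizer (P : Set G) := hS.mem_normalizer hz hz1 (by
      rw [show u⁻¹ * z * u = u * z * u⁻¹ by rw [hu'], hinv]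
      exact inv_mem hz)
    have h2 : 2 ∣ 39 := by
      rw [← hu, ← (show Nat.card (normalizer (P : Set G)) = 39 from hN)]
      exact Subgroup.orderOf_dvd_natCard _ hmemN
    norm_num at h2
  -- characters outside the block vanish at `z`
  have hout : ∀ χ : IrrCharacter G, χ ∉ Cfsg.principalBlock M G → (χ : G → ℂ) z = 0 := by
    intro χ hχ
    have h1 := hS.card_fiber hz hz1
    rw [hS.centralizer_eq hz hz1, show Nat.card (centralizer (P : Set G)) = 13 from hC] at h1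
    have h2 : (BlockThms.OrderP.fiber 13 z).card = 1 :=
      Nat.eq_of_mul_eq_mul_right (by norm_num) (h1.trans (one_mul 13).symm)
    obtain ⟨y, hy⟩ := Finset.card_eq_one.1 h2
    have h4 := BlockThms.OrderP.self_mem_fiber (p := 13) (P := P) hz
    rw [hy, Finset.mem_singleton] at h4
    have h0 := hS.avg_eq_zero hM hz hz1 hχ
    rw [BlockThms.OrderP.avg, hy, Finset.card_singleton, Finset.sum_singleton, Nat.cast_one,
      inv_one, one_mul, ← h4] at h0
    exact h0
  have hsplit : ∀ f : IrrCharacter G → ℂ, (∀ χ, χ ∉ Cfsg.principalBlock M G → f χ = 0) →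
      ∑ χ, f χ = ∑ χ ∈ X, f χ + ∑ χ ∈ Y, f χ := by
    intro f hf
    rw [← Finset.sum_union hdisj]
    refine (Finset.sum_subset (Finset.subset_univ _) fun χ _ hn => hf χ fun hb => hn ?_).symm
    exact Finset.mem_union.2 ((hmem χ).1 hb)
  -- degrees
  set d := fun χ : IrrCharacter G => charDegree (χ : G → ℂ) with hd
  have hdeg1 : ∀ χ : IrrCharacter G, (χ : G → ℂ) 1 = (d χ : ℂ) :=
    fun χ => (charDegree_cast (Char.IsIrr.isCharacter χ.2)).symm
  have htd : d (triv G) = 1 := charDegree_eq (by show (1 : ℂ) = _; simp)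
  have htX : triv G ∈ X := by
    refine ((hmem _).1 (triv_mem_principalBlock hM)).resolve_right fun hy => ?_
    have h1 : ((1 : ℕ) : ℤ) ≡ -(((3 : ℕ) : ℤ) * s) [ZMOD (13 : ℕ)] := htd ▸ hY _ hy
    rcases hs with rfl | rfl <;> exact absurd h1 (by decide)
  have hbound : ∀ χ ∈ Cfsg.principalBlock M G, χ ≠ triv G →
      d χ < 75 ∧ 2 ≤ d χ ∧ d χ ∣ 5616 ∧ ¬ 13 ∣ d χ := by
    intro χ hχ hne
    obtain ⟨h1, h2, -⟩ := degree_facts hna χ fun e1 => hne (Subtype.ext e1)
    rw [h] at h2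
    refine ⟨?_, h1, ?_, hS.not_dvd_degree hM hχ⟩
    · by_contra hge
      have := Nat.mul_le_mul (Nat.le_of_not_lt hge) (Nat.le_of_not_lt hge)
      simp only [hd] at this
      omega
    · rw [← h]; exact Char.IsIrr.degree_dvd_card χ.2 (hdeg1 χ)
  have hXdeg : ∀ χ ∈ X, χ ≠ triv G → (a χ = 1 ∧ d χ = 27) ∨ (a χ = -1 ∧ d χ = 12) := by
    intro χ hχ hne
    obtain ⟨ha, hda, -⟩ := hX χ hχ
    obtain ⟨h1, h2, h3, h4⟩ := hbound χ ((hmem χ).2 (Or.inl hχ)) hne
    obtain ⟨c1, c2⟩ := deg_check _ h1 h2 h3 h4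
    rcases ha with e1 | e1 <;> rw [e1] at hda
    · exact Or.inl ⟨e1, c1 (by simpa [Int.ModEq] using hda)⟩
    · exact Or.inr ⟨e1, c2 (by simpa [Int.ModEq] using hda)⟩
  have hta : a (triv G) = 1 := by
    obtain ⟨ha, hda, -⟩ := hX _ htX
    refine ha.resolve_right fun e1 => ?_
    have h1 : ((1 : ℕ) : ℤ) ≡ -1 [ZMOD (13 : ℕ)] := by rw [← e1]; exact htd ▸ hda
    exact absurd h1 (by decide)
  obtain ⟨θ, hθ⟩ : Y.Nonempty := Finset.card_pos.1 (by omega)
  obtain ⟨p, q, hpq, hXe⟩ := Finset.card_eq_two.1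
    (show (X.erase (triv G)).card = 2 by rw [Finset.card_erase_of_mem htX, hXc])
  have hpX : p ∈ X.erase (triv G) := by rw [hXe]; exact Finset.mem_insert_self _ _
  have hqX : q ∈ X.erase (triv G) := by
    rw [hXe]; exact Finset.mem_insert_of_mem (Finset.mem_singleton_self _)
  have hXsum : ∀ f : IrrCharacter G → ℂ, ∑ χ ∈ X, f χ = f (triv G) + (f p + f q) := by
    intro f
    rw [← Finset.add_sum_erase _ _ htX, hXe, Finset.sum_pair hpq]
  -- the degree relation
  have hθne : θ ≠ triv G := fun e1 => Finset.disjoint_left.1 hdisj htX (e1 ▸ hθ)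
  obtain ⟨hy1, hy2, hy3, -⟩ := hbound θ ((hmem θ).2 (Or.inr hθ)) hθne
  have hdrel : s * (d θ : ℤ) + (1 + (a p * (d p : ℤ) + a q * (d q : ℤ))) = 0 := by
    have h1 := hrel θ hθ 1 (by simp)
    rw [hXsum, hta] at h1
    simp only [hdeg1, htd] at h1
    exact_mod_cast (by push_cast at h1 ⊢; linear_combination h1 :
      ((s * (d θ : ℤ) + (1 + (a p * (d p : ℤ) + a q * (d q : ℤ))) : ℤ) : ℂ) = ((0 : ℤ) : ℂ))
  obtain ⟨A, B, hA, hAd, hB, hBd, hy16, hs1, hAB⟩ : ∃ A B, a A = 1 ∧ d A = 27 ∧ a B = -1 ∧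
      d B = 12 ∧ d θ = 16 ∧ s = -1 ∧ ((p = A ∧ q = B) ∨ (p = B ∧ q = A)) := by
    obtain ⟨hyc1, hyc2⟩ := y_check _ hy1 hy2 hy3
    rcases hXdeg p (Finset.mem_of_mem_erase hpX) (Finset.ne_of_mem_erase hpX) with ⟨e1, e2⟩ | ⟨e1, e2⟩
      <;> rcases hXdeg q (Finset.mem_of_mem_erase hqX) (Finset.ne_of_mem_erase hqX) with
        ⟨f1, f2⟩ | ⟨f1, f2⟩ <;> rw [e1, e2, f1, f2] at hdrel <;> norm_num at hdrel
    · rcases hs with rfl | rfl <;> omega
    · exact ⟨p, q, e1, e2, f1, f2, by rcases hs with rfl | rfl <;> omega,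
        by rcases hs with rfl | rfl <;> omega, Or.inl ⟨rfl, rfl⟩⟩
    · exact ⟨q, p, f1, f2, e1, e2, by rcases hs with rfl | rfl <;> omega,
        by rcases hs with rfl | rfl <;> omega, Or.inr ⟨rfl, rfl⟩⟩
    · rcases hs with rfl | rfl <;> omega
  have hXsum' : ∀ f : IrrCharacter G → ℂ, ∑ χ ∈ X, f χ = f (triv G) + (f A + f B) := by
    intro f
    rcases hAB with ⟨e1, e2⟩ | ⟨e1, e2⟩ <;> rw [hXsum, e1, e2] <;> ring
  have hAX : A ∈ X ∧ B ∈ X ∧ A ≠ B ∧ A ≠ triv G ∧ B ≠ triv G := by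
    rcases hAB with ⟨rfl, rfl⟩ | ⟨rfl, rfl⟩
    · exact ⟨Finset.mem_of_mem_erase hpX, Finset.mem_of_mem_erase hqX, hpq,
        Finset.ne_of_mem_erase hpX, Finset.ne_of_mem_erase hqX⟩
    · exact ⟨Finset.mem_of_mem_erase hqX, Finset.mem_of_mem_erase hpX, hpq.symm,
        Finset.ne_of_mem_erase hqX, Finset.ne_of_mem_erase hpX⟩
  have hval : ∀ χ ∈ X, (χ : G → ℂ) z = (a χ : ℂ) := fun χ hχ => by
    have h1 := (hX χ hχ).2.2 z hz hz1 1 (one_mem _) (by simp)
    rwa [mul_one] at h1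
  have hAz : (A : G → ℂ) z = 1 := by rw [hval A hAX.1, hA, Int.cast_one]
  have hBz : (B : G → ℂ) z = -1 := by rw [hval B hAX.2.1, hB, Int.cast_neg, Int.cast_one]
  have hθd : ∀ χ ∈ Y, (χ : G → ℂ) 1 = 16 := fun χ hχ => by
    rw [hYeq χ hχ θ hθ 1 (by simp), hdeg1, hy16]; norm_num
  have hrel' : ∀ g : G, ¬ 13 ∣ orderOf g →
      (θ : G → ℂ) g = 1 + (A : G → ℂ) g - (B : G → ℂ) g := fun g hg => by
    have h1 := hrel θ hθ g hg
    rw [hXsum', hta, hA, hB, hs1] at h1
    simp only [Int.cast_one, Int.cast_neg, one_mul, neg_one_mul,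
      show ((triv G : IrrCharacter G) : G → ℂ) g = 1 from rfl] at h1
    linear_combination -h1
  have htriv : ∀ g, ((triv G : IrrCharacter G) : G → ℂ) g = 1 := fun _ => rfl
  have hA1 : (A : G → ℂ) 1 = 27 := by rw [hdeg1, hAd]; norm_num
  have hB1 : (B : G → ℂ) 1 = 12 := by rw [hdeg1, hBd]; norm_num
  -- the sums over the exceptional characters
  have hsum1 : ∑ χ ∈ Y, (χ : G → ℂ) z = -1 := by
    have h1 := Char.second_orthogonality z (1 : G)
    rw [if_neg (fun e1 => hz1 (isConj_one_left.1 e1)),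
      hsplit _ (fun χ hχ => by rw [hout χ hχ, zero_mul]), hXsum'] at h1
    have h2 : ∑ χ ∈ Y, (χ : G → ℂ) z * conj ((χ : G → ℂ) 1) = ∑ χ ∈ Y, (χ : G → ℂ) z * 16 :=
      Finset.sum_congr rfl fun χ hχ => by rw [hθd χ hχ, Complex.conj_ofNat]
    rw [h2, ← Finset.sum_mul] at h1
    simp only [htriv, hAz, hBz, hA1, hB1, map_one, Complex.conj_ofNat] at h1
    linear_combination h1 / 16
  have hsum2 : ∑ χ ∈ Y, (χ : G → ℂ) z * conj ((χ : G → ℂ) z) = 10 := by
    have h1 := Char.second_orthogonality z z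
    rw [if_pos (IsConj.refl z), hzC, hsplit _ (fun χ hχ => by rw [hout χ hχ, zero_mul]), hXsum']
      at h1
    simp only [htriv, hAz, hBz, map_neg, map_one] at h1
    push_cast at h1
    linear_combination h1
  refine ⟨{
    z := z, hz := hzo, hzC := hzC, noinv := hnoinv, A := A, B := B, W := θ
    hA1 := hA1, hB1 := hB1, hW1 := hθd θ hθ, hrel := hrel', hzz := ?_, hone := ?_, hcol := ?_ }⟩
  · intro g hg
    have h2 : ∑ χ ∈ Y, (χ : G → ℂ) g * (χ : G → ℂ) z * conj ((χ : G → ℂ) z) / (χ : G → ℂ) 1 =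
        ∑ χ ∈ Y, (θ : G → ℂ) g / 16 * ((χ : G → ℂ) z * conj ((χ : G → ℂ) z)) :=
      Finset.sum_congr rfl fun χ hχ => by rw [hθd χ hχ, hYeq χ hχ θ hθ g hg]; ring
    rw [hsplit _ (fun χ hχ => by rw [hout χ hχ, mul_zero, zero_mul, zero_div]), hXsum', h2,
      ← Finset.mul_sum, hsum2]
    simp only [htriv, hAz, hBz, hA1, hB1, map_neg, map_one]
    ring
  · intro g w hg hw
    have h2 : ∑ χ ∈ Y, (χ : G → ℂ) g * (χ : G → ℂ) z * conj ((χ : G → ℂ) w) / (χ : G → ℂ) 1 =
        ∑ χ ∈ Y, (θ : G → ℂ) g * conj ((θ : G → ℂ) w) / 16 * (χ : G → ℂ) z :=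
      Finset.sum_congr rfl fun χ hχ => by
        rw [hθd χ hχ, hYeq χ hχ θ hθ g hg, hYeq χ hχ θ hθ w hw]; ring
    rw [hsplit _ (fun χ hχ => by rw [hout χ hχ, mul_zero, zero_mul, zero_div]), hXsum', h2,
      ← Finset.mul_sum, hsum1]
    simp only [htriv, hAz, hBz, hA1, hB1, map_one]
    ring
  · intro g hg
    refine le_trans (le_of_eq ?_) (column_le g (X ∪ Y))
    have e1 : ∑ χ ∈ X, Complex.normSq ((χ : G → ℂ) g) = 1 + Complex.normSq ((A : G → ℂ) g) +
        Complex.normSq ((B : G → ℂ) g) := by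
      have h1 := hXsum' fun χ => (Complex.normSq ((χ : G → ℂ) g) : ℂ)
      simp only [htriv, map_one, Complex.ofReal_one] at h1
      exact_mod_cast (by push_cast; linear_combination h1 :
        ((∑ χ ∈ X, Complex.normSq ((χ : G → ℂ) g) : ℝ) : ℂ) = ((1 + Complex.normSq ((A : G → ℂ) g) +
          Complex.normSq ((B : G → ℂ) g) : ℝ) : ℂ))
    rw [Finset.sum_union hdisj, e1, Finset.sum_congr rfl (g := fun _ =>
      Complex.normSq ((θ : G → ℂ) g)) fun χ hχ => by rw [hYeq χ hχ θ hθ g hg],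
      Finset.sum_const, hYc, nsmul_eq_mul]
    push_cast
    ring

end Cfsg.Agent.SmallOrder.Order5616
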