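import Cfsg.Agent.SmallOrder.Klein168
import Cfsg.Agent.SmallOrder.Exclude1092
import Cfsg.Agent.OrderType.Count
import Cfsg.Agent.S3304

/-!
# A group of order 48 which covers the symmetric group of degree four
-/

set_option autoImplicit false

namespace Cfsg.Agent.SmallOrder.Order5616

open Subgroup

universe u

theorem swap_mem_of_normal {P : Subgroup (Equiv.Perm (Fin 4))} (hn : P.Normal)
    (hP : Nat.card P = 8) : False := by
  have : Fact (Nat.Prime 2) := ⟨Nat.prime_two⟩
  have h24 : Nat.card (Equiv.Perm (Fin 4)) = 24 := by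
    rw [Nat.card_perm, Nat.card_eq_fintype_card, Fintype.card_fin]; rfl
  have hi : ¬ 2 ∣ P.index := by
    have := P.card_mul_index
    rw [hP, h24] at this
    omega
  have hp : IsPGroup 2 P := IsPGroup.of_card (n := 3) (by rw [hP]; norm_num)
  obtain ⟨T, hT⟩ : ∃ T : Sylow 2 (Equiv.Perm (Fin 4)), (T : Subgroup _) = P :=
    ⟨hp.toSylow hi, rfl⟩
  have hTn : (T : Subgroup (Equiv.Perm (Fin 4))).Normal := by rw [hT]; exact hn
  have hsub := T.unique_of_normal hTn
  have hmem : ∀ s : Equiv.Perm (Fin 4), s.IsSwap → s ∈ P := by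
    rintro s ⟨a, b, hab, rfl⟩
    have h2 : orderOf (Equiv.swap a b) = 2 :=
      orderOf_eq_prime (by rw [sq, Equiv.swap_mul_self]) (fun e => hab (Equiv.swap_eq_one_iff.1 e))
    obtain ⟨U, hU⟩ := (IsPGroup.of_card (n := 1) (by rw [Nat.card_zpowers, h2, pow_one]) :
      IsPGroup 2 (zpowers (Equiv.swap a b))).exists_le_sylow
    rw [← hT, Subsingleton.elim T U]
    exact hU (mem_zpowers _)
  have htop : P = ⊤ := top_le_iff.1 (by
    rw [← Equiv.Perm.closure_isSwap (α := Fin 4), closure_le]; exact hmem)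
  rw [htop, card_top, h24] at hP
  omega

/-- Two different subgroups of order eight of the symmetric group meet in the four-group. -/
theorem inf_le_s4Klein {A B : Subgroup (Equiv.Perm (Fin 4))} (hA : Nat.card A = 8)
    (hB : Nat.card B = 8) (hne : A ≠ B) : A ⊓ B ≤ s4Klein := by
  have : Fact (Nat.Prime 2) := ⟨Nat.prime_two⟩
  have := s4Klein_normal
  have h24 : Nat.card (Equiv.Perm (Fin 4)) = 24 := by
    rw [Nat.card_perm, Nat.card_eq_fintype_card, Fintype.card_fin]; rfl
  have hle : ∀ X : Subgroup (Equiv.Perm (Fin 4)), Nat.card X = 8 → s4Klein ≤ X := by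
    intro X hX
    have hi : ¬ 2 ∣ X.index := by
      have := X.card_mul_index
      rw [hX, h24] at this
      omega
    set T : Sylow 2 (Equiv.Perm (Fin 4)) :=
      (IsPGroup.of_card (n := 3) (by rw [hX]; norm_num) : IsPGroup 2 X).toSylow hi with hT
    have hK : IsPGroup 2 s4Klein :=
      IsPGroup.of_card (n := 2) (by rw [isKleinFour_s4Klein.card_four]; norm_num)
    obtain ⟨U, hU⟩ := hK.exists_le_sylow
    obtain ⟨g, hg⟩ := MulAction.exists_smul_eq (Equiv.Perm (Fin 4)) U T
    intro x hx
    have hx' : g⁻¹ * x * g ∈ (U : Subgroup _) := hU (by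
      have := s4Klein_normal.conj_mem x hx g⁻¹
      rwa [inv_inv] at this)
    have : x ∈ (T : Subgroup _) := by
      rw [← hg, Sylow.coe_subgroup_smul]
      exact ⟨g⁻¹ * x * g, hx', by simp [MulAut.smul_def, mul_assoc]⟩
    exact this
  have h4 : Nat.card (A ⊓ B : Subgroup (Equiv.Perm (Fin 4))) ∣ 8 := hA ▸ card_dvd_of_le inf_le_left
  have hK4 := isKleinFour_s4Klein.card_four
  have hge : Nat.card s4Klein ≤ Nat.card (A ⊓ B : Subgroup (Equiv.Perm (Fin 4))) :=
    card_le_of_le (le_inf (hle A hA) (hle B hB))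
  rw [hK4] at hge
  refine (eq_of_le_of_card_ge (le_inf (hle A hA) (hle B hB)) ?_).ge
  rw [hK4]
  by_contra hlt
  have h8 : Nat.card (A ⊓ B : Subgroup (Equiv.Perm (Fin 4))) = 8 := by
    have := Nat.le_of_dvd (by norm_num) h4
    interval_cases Nat.card (A ⊓ B : Subgroup (Equiv.Perm (Fin 4))) <;> omega
  have e1 : A ⊓ B = A := eq_of_le_of_card_ge inf_le_left (by rw [hA, h8])
  have e2 : A ⊓ B = B := eq_of_le_of_card_ge inf_le_right (by rw [hB, h8])
  exact hne (e1.symm.trans e2)

variable {C : Type u} [Group C] [Finite C]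

/-- The action on the four Sylow 3-subgroups. -/
theorem exists_s4 (hC : Nat.card C = 48) {t : C} (ht : orderOf t = 2) (htc : t ∈ center C)
    (hv : ∀ v : C, orderOf v = 3 → Nat.card (centralizer ({v} : Set C)) ≤ 6) :
    ∃ φ : C →* Equiv.Perm (Fin 4), Function.Surjective φ ∧ φ.ker = zpowers t ∧
      center C = zpowers t := by
  have : Fact (Nat.Prime 3) := ⟨Nat.prime_three⟩
  have hcard : ∀ P : Sylow 3 C, Nat.card (P : Subgroup C) = 3 := fun P => by
    rw [Sylow.card_eq_multiplicity, hC, show (48 : ℕ) = 3 ^ 1 * 16 by norm_num,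
      Nat.factorization_mul (by norm_num) (by norm_num), Finsupp.add_apply,
      Nat.factorization_pow, Finsupp.smul_apply, Nat.Prime.factorization_self Nat.prime_three,
      Nat.factorization_eq_zero_of_not_dvd (by norm_num)]
    norm_num
  have hcent : ∀ P : Sylow 3 C, Nat.card (centralizer ((P : Subgroup C) : Set C)) = 6 := by
    intro P
    obtain ⟨v, hvP⟩ := exists_prime_orderOf_dvd_card' (G := (P : Subgroup C)) 3 (by rw [hcard])
    have hvo : orderOf (v : C) = 3 := (Subgroup.orderOf_coe v).trans hvP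
    have hPz : (P : Subgroup C) = zpowers (v : C) := by
      refine (eq_of_le_of_card_ge (zpowers_le.2 v.2) ?_).symm
      rw [hcard, Nat.card_zpowers, hvo]
    have hle : centralizer ((P : Subgroup C) : Set C) = centralizer ({(v : C)} : Set C) := by
      rw [← centralizer_zpowers_eq (v : C)]
      exact congrArg (fun X : Subgroup C => centralizer (X : Set C)) hPz
    rw [hle]
    have h3 : 3 ∣ Nat.card (centralizer ({(v : C)} : Set C)) :=
      hvo.symm.dvd.trans (Subgroup.orderOf_dvd_natCard _ (mem_centralizer_singleton_iff.2 rfl))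
    have h2 : 2 ∣ Nat.card (centralizer ({(v : C)} : Set C)) := ht ▸ Subgroup.orderOf_dvd_natCard _
      (mem_centralizer_singleton_iff.2 ((mem_center_iff.1 htc (v : C)).symm))
    exact le_antisymm (hv _ hvo) (Nat.le_of_dvd Nat.card_pos
      ((by norm_num : Nat.Coprime 2 3).mul_dvd_of_dvd_of_dvd h2 h3))
  have hn : Nat.card (Sylow 3 C) = 4 := by
    set P : Sylow 3 C := default
    set N := normalizer ((P : Subgroup C) : Set C) with hN
    have h1 : Nat.card N ≤ 12 := by
      rw [← (normalizerMonoidHom (P : Subgroup C)).ker.card_mul_index, index_ker]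
      have hk : Nat.card (normalizerMonoidHom (P : Subgroup C)).ker = 6 := by
        rw [normalizerMonoidHom_ker,
          Nat.card_congr (subgroupOfEquivOfLe (centralizer_le_normalizer _)).toEquiv, hcent]
      have hr : Nat.card (normalizerMonoidHom (P : Subgroup C)).range ≤ 2 := by
        have : IsCyclic (P : Subgroup C) := isCyclic_of_prime_card (hcard P)
        refine (Nat.card_le_card_of_injective _ Subtype.val_injective).trans ?_
        rw [IsCyclic.card_mulAut, hcard]
        decide
      rw [hk]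
      omega
    have h2 : 2 ∣ Nat.card N := ht ▸ Subgroup.orderOf_dvd_natCard _ (by
      refine mem_normalizer_iff.2 fun x => ?_
      rw [← mem_center_iff.1 htc x, mul_assoc, mul_inv_cancel, mul_one])
    have h3 : N.index = Nat.card (Sylow 3 C) := (Sylow.card_eq_index_normalizer P).symm
    have h4 := N.card_mul_index
    rw [hC, h3] at h4
    have h5 := card_sylow_modEq_one 3 C
    rw [Nat.ModEq] at h5
    have h6 : Nat.card N ∈ Nat.divisors 48 :=
      Nat.mem_divisors.2 ⟨Dvd.intro _ h4, by norm_num⟩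
    have key : ∀ m ∈ Nat.divisors 48, m ≤ 12 → 2 ∣ m → (48 / m) % 3 = 1 → m = 12 := by decide +kernel
    have h7 : 48 / Nat.card N = Nat.card (Sylow 3 C) := by
      rw [← h4, Nat.mul_div_cancel_left _ Nat.card_pos]
    have := key _ h6 h1 h2 (by rw [h7]; simpa using h5)
    rw [this] at h4
    omega
  set e := Finite.equivFinOfCardEq hn
  set φ : C →* Equiv.Perm (Fin 4) :=
    e.permCongrHom.toMonoidHom.comp (MulAction.toPermHom C (Sylow 3 C)) with hφ
  have hker : ∀ g : C, g ∈ φ.ker ↔ ∀ Q : Sylow 3 C, g • Q = Q := by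
    intro g
    rw [MonoidHom.mem_ker, hφ, MonoidHom.comp_apply, MulEquiv.coe_toMonoidHom,
      MulEquiv.map_eq_one_iff, Equiv.ext_iff]
    rfl
  have hKN : ∀ (Q : Sylow 3 C) (g : C), g ∈ φ.ker → g ∈ normalizer ((Q : Subgroup C) : Set C) :=
    fun Q g hg => Sylow.smul_eq_iff_mem_normalizer.1 ((hker g).1 hg Q)
  have hKQ : ∀ Q : Sylow 3 C, φ.ker ⊓ (Q : Subgroup C) = ⊥ := by
    intro Q
    have hd := card_dvd_of_le (inf_le_right : φ.ker ⊓ (Q : Subgroup C) ≤ (Q : Subgroup C))
    rw [hcard, Nat.dvd_prime Nat.prime_three] at hd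
    refine hd.elim (fun h1 => card_eq_one.1 h1) fun h3 => ?_
    exfalso
    have hQK : (Q : Subgroup C) ≤ φ.ker :=
      inf_eq_right.1 (eq_of_le_of_card_ge inf_le_right (by rw [h3, hcard]))
    have hall : ∀ R : Sylow 3 C, R = Q := by
      intro R
      have hle : (Q : Subgroup C) ≤ (R : Subgroup C) := by
        have h1 := Q.isPGroup'.inf_normalizer_sylow R
        rw [inf_eq_left.2 (fun x hx => hKN R x (hQK hx))] at h1
        exact inf_eq_left.1 h1.symm
      exact Sylow.ext (eq_of_le_of_card_ge hle (by rw [hcard, hcard])).symm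
    have : Subsingleton (Sylow 3 C) := ⟨fun a b => (hall a).trans (hall b).symm⟩
    have := Finite.card_le_one_iff_subsingleton.2 this
    omega
  have h3K : ¬ 3 ∣ Nat.card φ.ker := by
    intro h3
    obtain ⟨x, hx⟩ := exists_prime_orderOf_dvd_card' (G := φ.ker) 3 h3
    have hxo : orderOf (x : C) = 3 := (Subgroup.orderOf_coe x).trans hx
    obtain ⟨Q, hQ⟩ := (IsPGroup.of_card (n := 1) (by rw [Nat.card_zpowers, hxo, pow_one]) :
      IsPGroup 3 (zpowers (x : C))).exists_le_sylow
    have h1 : (x : C) ∈ φ.ker ⊓ (Q : Subgroup C) := ⟨x.2, hQ (mem_zpowers _)⟩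
    rw [hKQ Q, mem_bot] at h1
    rw [h1, orderOf_one] at hxo
    omega
  have hKc : φ.ker ≤ centralizer (((default : Sylow 3 C) : Subgroup C) : Set C) := by
    intro k hk
    rw [mem_centralizer_iff]
    intro x hx
    set Q : Sylow 3 C := default
    have h1 : k * x * k⁻¹ * x⁻¹ ∈ φ.ker ⊓ (Q : Subgroup C) := by
      refine ⟨?_, mul_mem ((mem_normalizer_iff.1 (hKN Q k hk) x).1 hx) ((Q : Subgroup C).inv_mem hx)⟩
      rw [show k * x * k⁻¹ * x⁻¹ = k * (x * k⁻¹ * x⁻¹) by group]
      exact mul_mem hk (φ.normal_ker.conj_mem _ (inv_mem hk) x)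
    rw [hKQ Q, mem_bot, mul_inv_eq_one, mul_inv_eq_iff_eq_mul] at h1
    exact h1.symm
  have hz : ∀ z ∈ center C, z ∈ φ.ker := fun z hz => (hker z).2 fun Q =>
    Sylow.smul_eq_iff_mem_normalizer.2 (mem_normalizer_iff.2 fun x => by
      rw [← mem_center_iff.1 hz x, mul_assoc, mul_inv_cancel, mul_one])
  have hK2 : φ.ker = zpowers t := by
    refine (eq_of_le_of_card_ge (zpowers_le.2 (hz t htc)) ?_).symm
    rw [Nat.card_zpowers, ht]
    have h6 := card_dvd_of_le hKc
    rw [hcent] at h6
    have := Nat.le_of_dvd (by norm_num) h6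
    interval_cases Nat.card φ.ker <;> omega
  refine ⟨φ, ?_, hK2, le_antisymm (hK2 ▸ hz) (zpowers_le.2 htc)⟩
  rw [← MonoidHom.range_eq_top]
  refine eq_top_of_card_eq _ ?_
  have := φ.ker.card_mul_index
  rw [index_ker, hC, hK2, Nat.card_zpowers, ht] at this
  rw [Nat.card_perm, Nat.card_fin]
  norm_num [Nat.factorial] at this ⊢
  omega

/-- The number of involutions of a Sylow 2-subgroup decides the type of the group. -/
theorem gl23_or_quaternion (hC : Nat.card C = 48) {t : C} (ht : orderOf t = 2)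
    (htc : t ∈ center C) {φ : C →* Equiv.Perm (Fin 4)} (hφ : Function.Surjective φ)
    (hker : φ.ker = zpowers t)
    (hn : ∀ T : Subgroup C, Nat.card T = 16 →
      Nat.card {x : C // x ∈ T ∧ orderOf x = 2} % 4 = 1) :
    Nonempty (C ≃* GL (Fin 2) (ZMod 3)) ∨
      ∀ P : Sylow 2 C, Nonempty ((P : Subgroup C) ≃* QuaternionGroup 4) := by
  classical
  have : Fact (Nat.Prime 2) := ⟨Nat.prime_two⟩
  have := s4Klein_normal
  have htt : t * t = 1 := by
    have := pow_orderOf_eq_one t
    rwa [ht, sq] at this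
  have hcard : ∀ P : Sylow 2 C, Nat.card (P : Subgroup C) = 16 := fun P => by
    rw [Sylow.card_eq_multiplicity, hC, show (48 : ℕ) = 2 ^ 4 * 3 by norm_num,
      Nat.factorization_mul (by norm_num) (by norm_num), Finsupp.add_apply,
      Nat.factorization_pow, Finsupp.smul_apply, Nat.Prime.factorization_self Nat.prime_two,
      Nat.factorization_eq_zero_of_not_dvd (by norm_num)]
    norm_num
  have hkP : ∀ P : Sylow 2 C, φ.ker ≤ (P : Subgroup C) := by
    intro P
    rw [hker, zpowers_le]
    obtain ⟨Q, hQ⟩ := (IsPGroup.of_card (n := 1) (by rw [Nat.card_zpowers, ht, pow_one]) :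
      IsPGroup 2 (zpowers t)).exists_le_sylow
    obtain ⟨g, hg⟩ := MulAction.exists_smul_eq C Q P
    rw [← hg, Sylow.coe_subgroup_smul]
    refine ⟨t, hQ (mem_zpowers _), ?_⟩
    simp [MulAut.smul_def, mem_center_iff.1 htc g, mul_assoc]
  have himg : ∀ X : Subgroup C, φ.ker ≤ X → Nat.card X = 2 * Nat.card (X.map φ) := by
    intro X hX
    have h1 := (X.map φ).card_mul_index
    rw [index_map_eq X hφ hX] at h1
    have h2 := X.card_mul_index
    have h24 : Nat.card (Equiv.Perm (Fin 4)) = 24 := by
      rw [Nat.card_perm, Nat.card_fin]; rfl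
    rw [h24] at h1
    rw [hC] at h2
    have hpos : 0 < X.index := Nat.pos_of_ne_zero X.index_ne_zero_of_finite
    exact Nat.eq_of_mul_eq_mul_right hpos (by rw [h2, mul_assoc, h1]; rfl)
  have h8 : ∀ P : Sylow 2 C, Nat.card ((P : Subgroup C).map φ) = 8 := fun P => by
    have := himg _ (hkP P)
    rw [hcard] at this
    omega
  have hI : ∀ S T : Sylow 2 C, S ≠ T →
      Cfsg.PRankLE 2 1 ↥((S : Subgroup C) ⊓ (T : Subgroup C)) := by
    intro S T hne A hA hA2
    by_contra hlt
    obtain ⟨x, hxA, hxt⟩ : ∃ x ∈ A, ((x : C)) ∉ zpowers t := by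
      by_contra! hall
      refine hlt ?_
      calc Nat.card A ≤ Nat.card (zpowers t) :=
            Nat.card_le_card_of_injective (fun a => ⟨((a : ↥((S : Subgroup C) ⊓ T)) : C), hall _ a.2⟩)
              (fun a b e => Subtype.ext (Subtype.ext (congrArg (fun z : zpowers t => (z : C)) e)))
        _ = 2 ^ 1 := by rw [Nat.card_zpowers, ht, pow_one]
    have hxx : (x : C) * x = 1 := by
      have := congrArg Subtype.val (hA2 x hxA)
      rwa [sq] at this
    have hne' : (S : Subgroup C).map φ ≠ (T : Subgroup C).map φ := fun e => hne (Sylow.ext (by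
      rw [← comap_map_eq_self (hkP S), e, comap_map_eq_self (hkP T)]))
    have hxK : φ x ∈ s4Klein := inf_le_s4Klein (h8 S) (h8 T) hne'
      ⟨mem_map_of_mem φ x.2.1, mem_map_of_mem φ x.2.2⟩
    have hx1 : φ x ≠ 1 := fun e => hxt (hker ▸ MonoidHom.mem_ker.2 e)
    set W := s4Klein.comap φ with hW
    have hWn : W.Normal := inferInstance
    -- every element of the preimage of the four-group has square one
    have hsq : ∀ w ∈ W, w * w = 1 := by
      intro w hw
      by_cases hw1 : φ w = 1
      · have hwt : w ∈ zpowers t := hker ▸ MonoidHom.mem_ker.2 hw1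
        obtain ⟨k, rfl⟩ := mem_zpowers_iff.1 hwt
        rw [← zpow_add, ← two_mul, zpow_mul, show t ^ (2 : ℤ) = 1 from by
          rw [show (2 : ℤ) = ((2 : ℕ) : ℤ) from rfl, zpow_natCast, sq, htt], one_zpow]
      · obtain ⟨π, hπ⟩ := (show ∀ a ∈ s4Elems, ∀ b ∈ s4Elems, a ≠ 1 → b ≠ 1 →
            ∃ π : Equiv.Perm (Fin 4), π * a * π⁻¹ = b by decide +kernel) _ hxK _ hw hx1 hw1
        obtain ⟨c, rfl⟩ := hφ π
        obtain ⟨k, hk⟩ : w * (c * x * c⁻¹)⁻¹ ∈ zpowers t := by
          rw [← hker, MonoidHom.mem_ker]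
          simp [← hπ]
        have hkc : Commute (t ^ k) (c * (x : C) * c⁻¹) :=
          (mem_center_iff.1 (zpow_mem htc k) _).symm
        have e : w = t ^ k * (c * x * c⁻¹) := eq_mul_inv_iff_mul_eq.1 hk |>.symm
        rw [e, ← sq, hkc.mul_pow, sq, sq, ← zpow_add, ← two_mul, zpow_mul, show t ^ (2 : ℤ) = 1 from by
          rw [show (2 : ℤ) = ((2 : ℕ) : ℤ) from rfl, zpow_natCast, sq, htt], one_zpow, one_mul]
        calc c * (x : C) * c⁻¹ * (c * x * c⁻¹) = c * (x * x) * c⁻¹ := by group
          _ = 1 := by rw [hxx]; group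
    have hW8 : Nat.card W = 8 := by
      rw [himg W (fun k hk => by rw [hW, mem_comap, MonoidHom.mem_ker.1 hk]; exact one_mem _),
        map_comap_eq_self_of_surjective hφ, isKleinFour_s4Klein.card_four]
    have hWc : ∀ a ∈ W, ∀ b ∈ W, a * b = b * a := by
      intro a ha b hb
      have h1 := hsq _ (mul_mem ha hb)
      calc a * b = (a * b)⁻¹ := eq_inv_of_mul_eq_one_left h1
        _ = b * a := by
          rw [mul_inv_rev, inv_eq_of_mul_eq_one_right (hsq a ha),
            inv_eq_of_mul_eq_one_right (hsq b hb)]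
    obtain ⟨U, hU⟩ := (IsPGroup.of_card (n := 3) (by rw [hW8]; norm_num) :
      IsPGroup 2 W).exists_le_sylow
    have hn' := hn _ (hcard U)
    have hord : ∀ y : C, orderOf y = 2 ↔ y * y = 1 ∧ y ≠ 1 := fun y => by
      rw [orderOf_eq_prime_iff (p := 2), sq]
    have hcount : Nat.card {y : C // y ∈ (U : Subgroup C) ∧ orderOf y = 2} + 1 =
        Nat.card {y : C // y ∈ (U : Subgroup C) ∧ y * y = 1} := by
      have := Fintype.ofFinite C
      rw [Nat.card_eq_fintype_card, Nat.card_eq_fintype_card, Fintype.card_subtype,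
        Fintype.card_subtype]
      rw [← Finset.card_insert_of_notMem (a := (1 : C)) (by simp)]
      congr 1
      ext y
      by_cases hy : y = 1
      · simp [hy, one_mem]
      · simp [hy, hord]
    -- an involution outside the normal subgroup, with its fixed points
    by_cases hs : ∃ s ∈ (U : Subgroup C), s ∉ W ∧ s * s = 1
    · obtain ⟨s, hsU, hsW, hss⟩ := hs
      have hsinv : s⁻¹ = s := inv_eq_of_mul_eq_one_right hss
      let f : W →* W :=
        { toFun := fun w => ⟨(w : C) * (s * w * s), mul_mem w.2 (by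
            have := hWn.conj_mem _ w.2 s
            rwa [hsinv] at this)⟩
          map_one' := by ext; simp [hss]
          map_mul' := fun a b => by
            ext
            show (a : C) * b * (s * (a * b) * s) = a * (s * a * s) * (b * (s * b * s))
            have hm : s * (a : C) * s ∈ W := by
              have := hWn.conj_mem _ a.2 s
              rwa [hsinv] at this
            calc (a : C) * b * (s * (a * b) * s) = a * (b * (s * a * s)) * (s * b * s) := by
                  rw [show s * ((a : C) * b) * s = s * a * (s * s) * b * s by rw [hss]; group]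
                  group
              _ = _ := by rw [hWc _ b.2 _ hm]; group }
      have hfix : ∀ w : W, w ∈ f.ker ↔ (s * (w : C)) * (s * w) = 1 := fun w => by
        rw [MonoidHom.mem_ker, Subtype.ext_iff]
        show (w : C) * (s * w * s) = 1 ↔ _
        constructor <;> intro e
        · calc s * (w : C) * (s * w) = s * (w * (s * w * s)) * s⁻¹ := by group
            _ = 1 := by rw [e]; group
        · calc (w : C) * (s * w * s) = s⁻¹ * (s * w * (s * w)) * s := by group
            _ = 1 := by rw [e]; group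
      have hrange : f.range ≤ f.ker := by
        rintro _ ⟨w, rfl⟩
        rw [hfix]
        show s * ((w : C) * (s * w * s)) * (s * (w * (s * w * s))) = 1
        calc s * ((w : C) * (s * w * s)) * (s * (w * (s * w * s)))
            = (s * w * s) * (w * ((s * s) * (w * (s * w * s)))) := by group
          _ = 1 := by
            rw [hss, one_mul, ← mul_assoc (w : C) w, hsq _ w.2, one_mul]
            exact hsq _ (by
              have := hWn.conj_mem _ w.2 s
              rwa [hsinv] at this)
      have hcoset : Nat.card {y : C // (y ∈ (U : Subgroup C) ∧ y * y = 1) ∧ y ∉ W} =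
          Nat.card f.ker := by
        refine Eq.symm (Nat.card_congr (α := f.ker)
          { toFun := fun w => ⟨s * ((w : W) : C), ⟨mul_mem hsU (hU w.1.2), (hfix _).1 w.2⟩,
              fun h => hsW ((mul_mem_cancel_right w.1.2).1 h)⟩
            invFun := fun y => ⟨⟨s * y, ?_⟩, (hfix _).2 (by
              simp only [← mul_assoc, hss, one_mul]; exact y.2.1.2)⟩
            left_inv := fun w => Subtype.ext (Subtype.ext (show s * (s * ((w : W) : C)) = _ by rw [← mul_assoc, hss, one_mul]))
            right_inv := fun y => Subtype.ext (show s * (s * (y : C)) = _ by rw [← mul_assoc, hss, one_mul]) })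
        have hidx : (W.subgroupOf (U : Subgroup C)).index = 2 := by
          have := (W.subgroupOf (U : Subgroup C)).card_mul_index
          rw [Nat.card_congr (subgroupOfEquivOfLe hU).toEquiv, hW8, hcard] at this
          omega
        have h1 := (mul_mem_iff_of_index_two hidx (a := ⟨s, hsU⟩) (b := ⟨y, y.2.1.1⟩)).2
          (iff_of_false hsW y.2.2)
        exact h1
      have hker4 : 4 ∣ Nat.card f.ker := by
        have h1 := f.ker.card_mul_index
        rw [index_ker, hW8] at h1
        have h2 := card_le_of_le hrange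
        have h3 : Nat.card f.ker ∈ Nat.divisors 8 :=
          Nat.mem_divisors.2 ⟨Dvd.intro _ h1, by norm_num⟩
        have key : ∀ a ∈ Nat.divisors 8, ∀ b : ℕ, b < 9 → a * b = 8 → b ≤ a → 4 ∣ a := by
          decide +kernel
        have hb : Nat.card f.range < 9 := by
          have := Nat.le_of_dvd (by norm_num) (Dvd.intro_left _ h1)
          omega
        exact key _ h3 _ hb h1 h2
      have hsplit : Nat.card {y : C // y ∈ (U : Subgroup C) ∧ y * y = 1} = 8 +
          Nat.card {y : C // (y ∈ (U : Subgroup C) ∧ y * y = 1) ∧ y ∉ W} := by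
        rw [← hW8, ← Nat.card_sum]
        refine Nat.card_congr ((Equiv.sumCompl fun y : {y : C // y ∈ (U : Subgroup C) ∧ y * y = 1} =>
          (y : C) ∈ W).symm.trans (Equiv.sumCongr
            ((Equiv.subtypeSubtypeEquivSubtype fun {y} hy => ⟨hU hy, hsq y hy⟩))
            (Equiv.subtypeSubtypeEquivSubtypeInter _ (fun y : C => y ∉ W))))
      rw [hcoset] at hsplit
      omega
    · push_neg at hs
      have h8' : Nat.card {y : C // y ∈ (U : Subgroup C) ∧ y * y = 1} = 8 := by
        rw [← hW8]
        exact Nat.card_congr (Equiv.subtypeEquivRight fun y =>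
          ⟨fun ⟨h1, h2⟩ => by_contra fun h3 => hs y h1 h3 h2, fun h => ⟨hU h, hsq y h⟩⟩)
      omega
  have hsol : Group.IsSolvable C := by
    have h1 : Group.IsSolvable (Equiv.Perm (Fin 4)) := OrderType.s4_solvable
    have : IsMulCommutative φ.ker := by rw [hker]; infer_instance
    have hk : Group.IsSolvable φ.ker :=
      Group.isSolvable_of_comm fun a b => mul_comm' a b
    exact solvable_of_ker_le_range φ.ker.subtype φ (by rw [Subgroup.range_subtype])
  have hcore : Cfsg.oddCore C = ⊥ := by
    refine le_bot_iff.1 (sSup_le fun N ⟨hN, hcop⟩ => le_bot_iff.2 ?_)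
    have hNo : ¬ 2 ∣ Nat.card N := by
      rw [← Nat.prime_two.coprime_iff_not_dvd]; exact hcop.symm
    have hd : Nat.card N ∣ 48 := hC ▸ card_subgroup_dvd_card N
    have h13 : Nat.card N = 1 ∨ Nat.card N = 3 := by
      have key : ∀ m ∈ Nat.divisors 48, ¬ 2 ∣ m → m = 1 ∨ m = 3 := by decide +kernel
      exact key _ (Nat.mem_divisors.2 ⟨hd, by norm_num⟩) hNo
    refine h13.elim card_eq_one.1 fun h3 => ?_
    exfalso
    have hMn : (N.map φ).Normal := hN.map φ hφ
    have hd3 : Nat.card (N.map φ) ∣ 3 := h3 ▸ card_map_dvd N φ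
    rw [Nat.dvd_prime Nat.prime_three] at hd3
    rcases hd3 with e | e
    · have hle : N ≤ zpowers t := fun x hx => by
        rw [← hker, MonoidHom.mem_ker, ← mem_bot, ← card_eq_one.1 e]
        exact mem_map_of_mem φ hx
      have := card_dvd_of_le hle
      rw [h3, Nat.card_zpowers, ht] at this
      norm_num at this
    · obtain ⟨a, ha⟩ := exists_prime_orderOf_dvd_card' (G := N.map φ) 3 (by rw [e])
        (hp := ⟨Nat.prime_three⟩)
      have hao : orderOf (a : Equiv.Perm (Fin 4)) = 3 := (Subgroup.orderOf_coe a).trans ha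
      obtain ⟨b, hb⟩ := (show ∀ a : Equiv.Perm (Fin 4), a ^ 3 = 1 → a ≠ 1 →
          ∃ b : Equiv.Perm (Fin 4), b * a * b⁻¹ ∉ [1, a, a⁻¹] by decide +kernel) a
            (by rw [← hao, pow_orderOf_eq_one]) (fun h1 => by rw [h1, orderOf_one] at hao; omega)
      have hmem := hMn.conj_mem _ a.2 b
      have hz : N.map φ = zpowers (a : Equiv.Perm (Fin 4)) :=
        (eq_of_le_of_card_ge (zpowers_le.2 a.2) (by rw [Nat.card_zpowers, hao, e])).symm
      obtain ⟨k, hk⟩ := mem_zpowers_iff.1 ((SetLike.ext_iff.1 hz _).1 hmem)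
      rw [← zpow_mod_orderOf, hao, Nat.cast_ofNat] at hk
      have hk3 : k % 3 = 0 ∨ k % 3 = 1 ∨ k % 3 = 2 := by omega
      refine hb ?_
      rw [← hk]
      rcases hk3 with h0 | h0 | h0 <;> rw [h0]
      · simp
      · simp
      · have h2 : (a : Equiv.Perm (Fin 4)) ^ (2 : ℤ) = (a : Equiv.Perm (Fin 4))⁻¹ := by
          refine eq_inv_of_mul_eq_one_left ?_
          rw [show (2 : ℤ) = ((2 : ℕ) : ℤ) from rfl, zpow_natCast, ← pow_succ,
            show (2 : ℕ) + 1 = orderOf (a : Equiv.Perm (Fin 4)) from hao.symm, pow_orderOf_eq_one]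
        simp [h2]
  obtain ⟨e⟩ : Nonempty (C ≃* C ⧸ Cfsg.oddCore C) :=
    ⟨((QuotientGroup.quotientMulEquivOfEq hcore).trans QuotientGroup.quotientBot).symm⟩
  rcases S3304.result hsol hI with ⟨P, hP⟩ | hg | ⟨-, -, -, hq⟩
  · exfalso
    have hP' : ((P : Subgroup (C ⧸ Cfsg.oddCore C)).comap e.toMonoidHom).Normal := hP.comap _
    set Q : Sylow 2 C := default
    set N := (P : Subgroup (C ⧸ Cfsg.oddCore C)).comap e.toMonoidHom with hNdef
    have hN16 : Nat.card N = 16 := by
      calc Nat.card N = Nat.card (P : Subgroup (C ⧸ Cfsg.oddCore C)) :=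
            Nat.card_congr (Equiv.subtypeEquiv (p := fun x => x ∈ N)
              (q := fun y => y ∈ (P : Subgroup _)) e.toEquiv fun x => Iff.rfl)
        _ = 16 := by
          rw [Sylow.card_eq_multiplicity, ← Nat.card_congr e.toEquiv,
            ← Sylow.card_eq_multiplicity Q, hcard]
    obtain ⟨R, hR⟩ : ∃ R : Sylow 2 C, (R : Subgroup C) = N :=
      ⟨(IsPGroup.of_card (n := 4) (by rw [hN16]; norm_num) : IsPGroup 2 N).toSylow (by
        have := N.card_mul_index
        rw [hN16, hC] at this
        omega), rfl⟩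
    exact swap_mem_of_normal ((hR.symm ▸ hP' : (R : Subgroup C).Normal).map φ hφ) (h8 R)
  · obtain ⟨g⟩ := hg
    exact Or.inl ⟨e.trans g⟩
  · refine Or.inr fun P => ?_
    obtain ⟨R, hR⟩ : ∃ R : Sylow 2 (C ⧸ Cfsg.oddCore C),
        (R : Subgroup _) = (P : Subgroup C).map e.toMonoidHom :=
      ⟨P.mapSurjective (f := e.toMonoidHom) e.surjective, rfl⟩
    obtain ⟨f⟩ := hq R
    exact ⟨((P : Subgroup C).equivMapOfInjective e.toMonoidHom e.injective).trans
      ((MulEquiv.subgroupCongr hR.symm).trans f)⟩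

end Cfsg.Agent.SmallOrder.Order5616
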