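import Cfsg.Agent.SmallOrder.Order5616.Values
import Cfsg.Agent.SmallOrder.Order5616.Cent48
import Cfsg.Agent.S0201
import Cfsg.Agent.S2916
import Cfsg.Agent.Char.Ortho
import Cfsg.Agent.Compute.Mathieu
import Cfsg.Agent.Classical.SmallSimple

/-!
# The simple group of order 5616
-/

set_option autoImplicit false

namespace Cfsg.Agent.SmallOrder.Order5616

open Subgroup
open scoped ComplexConjugate

universe u

variable {G : Type u} [Group G] [Fintype G] [IsSimpleGroup G]

theorem Data.center_centralizer (D : Data G) (hna : ¬ IsMulCommutative G) (h : Nat.card G = 5616)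
    {t : G} (ht : orderOf t = 2) :
    ∃ φ : centralizer ({t} : Set G) →* Equiv.Perm (Fin 4), Function.Surjective φ ∧
      φ.ker = zpowers (⟨t, mem_centralizer_singleton_iff.2 rfl⟩ : centralizer ({t} : Set G)) ∧
      center (centralizer ({t} : Set G)) =
        zpowers (⟨t, mem_centralizer_singleton_iff.2 rfl⟩ : centralizer ({t} : Set G)) := by
  refine exists_s4 (D.involution hna h ht).1 ?_ ?_ fun v hv => ?_
  · rw [Subgroup.orderOf_mk, ht]
  · rw [mem_center_iff]
    exact fun g => Subtype.ext (mem_centralizer_singleton_iff.1 g.2)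
  · have hvo : orderOf (v : G) = 3 := (Subgroup.orderOf_coe v).trans hv
    have htv : Commute t (v : G) := (mem_centralizer_singleton_iff.1 v.2).symm
    rw [← D.six hna h ht hvo htv]
    refine Nat.card_le_card_of_injective (fun x => ⟨((x : centralizer ({t} : Set G)) : G), ?_⟩)
      fun a b e => Subtype.ext (Subtype.ext (congrArg
        (fun z : centralizer ({t * (v : G)} : Set G) => (z : G)) e))
    rw [mem_centralizer_singleton_iff]
    exact (Commute.mul_right (show Commute (x.1 : G) t from mem_centralizer_singleton_iff.1 x.1.2)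
      (show Commute (x.1 : G) v from congrArg Subtype.val (mem_centralizer_singleton_iff.1 x.2))).eq

/-- The character of degree twelve vanishes on the 2-elements of order at least four. -/
theorem Data.B_four (D : Data G) (hna : ¬ IsMulCommutative G) (h : Nat.card G = 5616)
    {g : G} (hg : 4 ∣ orderOf g) : (D.B : G → ℂ) g = 0 := by
  obtain ⟨k, hk⟩ := hg
  set t := g ^ (2 * k) with htdef
  have hk0 : k ≠ 0 := fun e => (orderOf_pos g).ne' (by rw [hk, e, mul_zero])
  have ht : orderOf t = 2 := by
    rw [htdef, orderOf_pow_of_dvd (by omega) ⟨2, by rw [hk]; ring⟩, hk,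
      show 4 * k = 2 * (2 * k) by ring, Nat.mul_div_cancel _ (by omega)]
  have hle : centralizer ({g} : Set G) ≤ centralizer ({t} : Set G) := fun x hx => by
    rw [mem_centralizer_singleton_iff] at hx ⊢
    exact (Commute.pow_right (show Commute x g from hx) _).eq
  have h4 : 4 ∣ Nat.card (centralizer ({g} : Set G)) :=
    (Dvd.intro k hk.symm).trans
      (Subgroup.orderOf_dvd_natCard _ (mem_centralizer_singleton_iff.2 rfl))
  rcases (D.even_elem hna h ht ⟨2 * k, by rw [hk]; ring⟩ hle).2 h4 with e | e
  · exact e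
  exfalso
  obtain ⟨φ, -, -, hz⟩ := D.center_centralizer hna h ht
  have heq : centralizer ({g} : Set G) = centralizer ({t} : Set G) :=
    eq_of_le_of_card_ge hle (by rw [e, (D.involution hna h ht).1])
  have hgC : g ∈ centralizer ({t} : Set G) := heq ▸ mem_centralizer_singleton_iff.2 rfl
  have hmem : (⟨g, hgC⟩ : centralizer ({t} : Set G)) ∈ center (centralizer ({t} : Set G)) := by
    rw [mem_center_iff]
    intro y
    have hy : (y : G) ∈ centralizer ({g} : Set G) := (SetLike.ext_iff.1 heq _).2 y.2
    exact Subtype.ext (mem_centralizer_singleton_iff.1 hy)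
  rw [hz] at hmem
  have h2 := orderOf_dvd_of_mem_zpowers hmem
  rw [Subgroup.orderOf_mk, Subgroup.orderOf_mk, ht, hk] at h2
  have := Nat.le_of_dvd (by norm_num) h2
  omega

/-- The involutions of a Sylow 2-subgroup. -/
theorem Data.involutions (D : Data G) (hna : ¬ IsMulCommutative G) (h : Nat.card G = 5616)
    (T : Subgroup G) (hT : Nat.card T = 16) :
    Nat.card {x : G // x ∈ T ∧ orderOf x = 2} % 4 = 1 := by
  classical
  have hval : ∀ x : T, (D.B : G → ℂ) x =
      (if (x : G) = 1 then (12 : ℂ) else 0) + (if orderOf (x : G) = 2 then (4 : ℂ) else 0) := by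
    intro x
    have hd : orderOf (x : G) ∣ 2 ^ 4 := by
      have := Subgroup.orderOf_dvd_natCard T x.2
      rwa [hT] at this
    obtain ⟨j, hj, he⟩ := (Nat.dvd_prime_pow Nat.prime_two).1 hd
    rcases j with _ | _ | j
    · rw [pow_zero, orderOf_eq_one_iff] at he
      rw [if_pos he, he, orderOf_one, if_neg (by norm_num), D.hB1, add_zero]
    · rw [zero_add, pow_one] at he
      have h1 : (x : G) ≠ 1 := fun e => by rw [e, orderOf_one] at he; omega
      rw [if_neg h1, if_pos he, (D.involution hna h he).2.2, zero_add]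
    · have h4 : 4 ∣ orderOf (x : G) := ⟨2 ^ j, by rw [he]; ring⟩
      have h1 : (x : G) ≠ 1 := fun e => by
        rw [e, orderOf_one] at h4
        norm_num at h4
      have h2 : orderOf (x : G) ≠ 2 := fun e => by rw [e] at h4; norm_num at h4
      rw [if_neg h1, if_neg h2, D.B_four hna h h4, add_zero]
  obtain ⟨k, hk⟩ := Char.classInner_isCharacter_eq_natCast
    (Char.isCharacter_res T (Char.IsIrr.isCharacter D.B.2)) (Char.isCharacter_one (G := T))
  have hsum : ∑ x : T, (D.B : G → ℂ) x =
      12 + 4 * (Nat.card {x : G // x ∈ T ∧ orderOf x = 2} : ℂ) := by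
    rw [Finset.sum_congr rfl fun x _ => hval x, Finset.sum_add_distrib,
      Finset.sum_eq_single_of_mem (f := fun x : T => if (x : G) = 1 then (12 : ℂ) else 0) (1 : T)
        (Finset.mem_univ _) (fun b _ hb => if_neg fun e => hb (Subtype.ext e)), if_pos (by simp),
      ← Finset.sum_filter, Finset.sum_const, nsmul_eq_mul, mul_comm]
    congr 2
    rw [← Fintype.card_subtype, ← Nat.card_eq_fintype_card, Nat.card_congr
      (Equiv.subtypeSubtypeEquivSubtypeInter (fun x : G => x ∈ T) (fun x => orderOf x = 2))]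
  simp only [Cfsg.classInner, map_one, mul_one, hT] at hk
  rw [hsum] at hk
  have : 12 + 4 * Nat.card {x : G // x ∈ T ∧ orderOf x = 2} = 16 * k := by
    have h' : ((12 + 4 * Nat.card {x : G // x ∈ T ∧ orderOf x = 2} : ℕ) : ℂ) = ((16 * k : ℕ) : ℂ) := by
      push_cast at hk ⊢
      linear_combination (16 : ℂ) * hk
    exact_mod_cast h'
  omega

/-- The centraliser of an involution. -/
theorem Data.nonempty_gl23 (D : Data G) (hna : ¬ IsMulCommutative G) (h : Nat.card G = 5616)
    {t : G} (ht : orderOf t = 2) :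
    Nonempty (centralizer ({t} : Set G) ≃* GL (Fin 2) (ZMod 3)) := by
  have : Fact (Nat.Prime 2) := ⟨Nat.prime_two⟩
  obtain ⟨φ, hφ, hker, hz⟩ := D.center_centralizer hna h ht
  set C := centralizer ({t} : Set G) with hC
  have hC48 := (D.involution hna h ht).1
  refine (gl23_or_quaternion hC48 (by rw [Subgroup.orderOf_mk, ht])
    (hz ▸ mem_zpowers _) hφ hker fun T hT => ?_).resolve_right fun hq => ?_
  · have hT' : Nat.card (T.map C.subtype) = 16 := by
      rw [card_map_of_injective C.subtype_injective, hT]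
    rw [← D.involutions hna h _ hT']
    congr 1
    refine Nat.card_congr
      { toFun := fun x => ⟨((x : C) : G), ⟨x, x.2.1, rfl⟩, (Subgroup.orderOf_coe _).trans x.2.2⟩
        invFun := fun y => ⟨⟨y, (map_subtype_le T) y.2.1⟩, ?_, (Subgroup.orderOf_mk _ _).trans y.2.2⟩
        left_inv := fun x => rfl
        right_inv := fun y => rfl }
    obtain ⟨c, hc, e⟩ := y.2.1
    rwa [show (⟨(y : G), (map_subtype_le T) y.2.1⟩ : C) = c from Subtype.ext e.symm]
  · set P : Sylow 2 C := default
    obtain ⟨e⟩ := hq P
    have hP16 : Nat.card (P : Subgroup C) = 16 := by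
      rw [Nat.card_congr e.toEquiv, Nat.card_eq_fintype_card, QuaternionGroup.card]
    have hQ : Nat.card ((P : Subgroup C).map C.subtype) = 16 := by
      rw [card_map_of_injective C.subtype_injective, hP16]
    obtain ⟨S, hS⟩ : ∃ S : Sylow 2 G, (S : Subgroup G) = (P : Subgroup C).map C.subtype :=
      ⟨(IsPGroup.of_card (n := 4) (by rw [hQ]; norm_num) :
        IsPGroup 2 ((P : Subgroup C).map C.subtype)).toSylow (by
          have := ((P : Subgroup C).map C.subtype).card_mul_index
          rw [hQ, h] at this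
          omega), rfl⟩
    have he : Nonempty ((S : Subgroup G) ≃* QuaternionGroup (2 ^ (1 + 1))) :=
      ⟨(MulEquiv.subgroupCongr hS).trans
        (((P : Subgroup C).equivMapOfInjective C.subtype C.subtype_injective).symm.trans e)⟩
    obtain ⟨e'⟩ := he
    have hc2 := S0201.result S 1 e' fun N hN hodd => by
      rcases hN.eq_bot_or_eq_top with e1 | e1
      · exact e1
      · rw [e1, card_top, h] at hodd
        exact absurd hodd (by decide)
    rw [center_eq_bot hna, card_bot] at hc2
    omega

theorem recognize (hna : ¬ IsMulCommutative G) (h : Nat.card G = 5616) :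
    ∃ (F : Type) (_ : Field F) (_ : Fintype F), Fintype.card F = 3 ∧
      Nonempty (G ≃* Matrix.ProjectiveSpecialLinearGroup (Fin 3) F) := by
  obtain ⟨D⟩ := exists_data hna h
  obtain ⟨t, ht⟩ := exists_prime_orderOf_dvd_card' (G := G) 2 (hp := ⟨Nat.prime_two⟩) (by rw [h]; norm_num)
  have hres : Cfsg.pResidual 2 G = ⊤ := by
    have hn : (Cfsg.pResidual 2 G).Normal := inferInstance
    refine hn.eq_bot_or_eq_top.resolve_left fun hbot => ?_
    obtain ⟨x, hx⟩ := exists_prime_orderOf_dvd_card' (G := G) 3 (hp := ⟨Nat.prime_three⟩) (by rw [h]; norm_num)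
    have hmem : x ∈ Cfsg.pResidual 2 G := subset_closure (by
      show Nat.Coprime (orderOf x) 2
      rw [hx]; norm_num)
    rw [hbot, mem_bot] at hmem
    rw [hmem, orderOf_one] at hx
    omega
  rcases S2916.result hres t ht (D.nonempty_gl23 hna h ht) with h1 | h1
  · exact h1
  · obtain ⟨e⟩ := h1
    have := Nat.card_congr e.toEquiv
    rw [h, Cfsg.Agent.Compute.card_m11] at this
    omega

/-- Two simple groups of order 5616 are isomorphic. -/
theorem unique {H : Type*} [Group H] [Fintype H] [IsSimpleGroup H] (hG : ¬ IsMulCommutative G)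
    (hH : ¬ IsMulCommutative H) (h : Nat.card G = 5616) (h' : Nat.card H = 5616) :
    Nonempty (G ≃* H) := by
  obtain ⟨F, _, _, hF, ⟨e⟩⟩ := recognize hG h
  obtain ⟨K, _, _, hK, ⟨f⟩⟩ := recognize hH h'
  obtain ⟨ψ⟩ := Cfsg.Agent.Classical.Small.psl_congr (n := 3)
    (FiniteField.ringEquivOfCardEq (K := F) (K' := K) (hF.trans hK.symm))
  exact ⟨e.trans (ψ.trans f.symm)⟩

end Cfsg.Agent.SmallOrder.Order5616
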