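import Cfsg.Agent.SmallOrder.Order5616.Block
import Cfsg.Agent.SmallOrder.Exclude1092

/-!
# Order 5616: the centralisers of involutions, and of elements of order six and four
-/

set_option autoImplicit false
set_option maxRecDepth 4000
set_option synthInstance.maxSize 5000

namespace Cfsg.Agent.SmallOrder.Order5616

open Subgroup
open scoped ComplexConjugate

universe u

theorem cent_check : ∀ r : ℕ, r < 55 → (r : ℤ) - 27 ≠ 27 → ((27 : ℤ) - ((r : ℤ) - 27)) % 4 = 0 →
    432 + 16 * ((r : ℤ) - 27) * ((r : ℤ) - 27) - 36 * ((r : ℤ) - 26) * ((r : ℤ) - 26) = 0 →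
    ∀ c ∈ Nat.divisors 5616, ¬ 13 ∣ c → 2 ∣ c →
      1 + ((r : ℤ) - 27) * ((r : ℤ) - 27) + ((r : ℤ) - 26) * ((r : ℤ) - 26) ≤ (c : ℤ) →
      (432 + 16 * ((r : ℤ) - 27) + 36 * ((r : ℤ) - 26)) % (c : ℤ) = 0 →
        (r : ℤ) - 27 = 3 ∧ c = 48 := by
  decide +kernel

theorem small_check : ∀ c ∈ Nat.divisors 48, ∀ r : ℕ, r < 15 →
    1 + ((r : ℤ) - 7) * ((r : ℤ) - 7) + ((r : ℤ) - 6) * ((r : ℤ) - 6) ≤ (c : ℤ) →
    (13 * (6 - 2 * ((r : ℤ) - 7))) % (c : ℤ) = 0 →
      (6 ∣ c → c = 6 ∨ ((r : ℤ) - 7 = 3 ∧ c = 48)) ∧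
      (4 ∣ c → (r : ℤ) - 7 = -1 ∨ c = 48) := by
  decide +kernel

variable {G : Type u} [Group G] [Fintype G] [IsSimpleGroup G]

omit [IsSimpleGroup G] in
theorem not_thirteen_of_dvd {g : G} {n : ℕ} (hg : orderOf g ∣ n) (hn : ¬ 13 ∣ n) :
    ¬ 13 ∣ orderOf g := fun h => hn (h.trans hg)

omit [IsSimpleGroup G] in
/-- The character of degree sixteen vanishes at elements of even order. -/
theorem Data.W_eq_zero (D : Data G) (h : Nat.card G = 5616) {g : G} (hg : 2 ∣ orderOf g) :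
    (D.W : G → ℂ) g = 0 := by
  have : Fact (Nat.Prime 2) := ⟨Nat.prime_two⟩
  obtain ⟨M, hM⟩ := Blocks.exists_isPModular 2 Nat.prime_two
  have hd : charDegree (D.W : G → ℂ) = 16 := by
    have h1 := Blocks.charDegree_cast (Char.IsIrr.isCharacter D.W.2)
    rw [D.hW1] at h1
    exact_mod_cast h1
  refine BlockThms.eq_zero_of_not_dvd_codegree hM D.W (by rw [h, hd]; norm_num) ?_
  unfold Cfsg.IsPRegular
  first | exact not_not_intro hg | (intro hh; exact hh hg) | (intro hh; exact absurd hg hh)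

omit [IsSimpleGroup G] in
theorem Data.B_eq (D : Data G) (h : Nat.card G = 5616) {g : G} (hg : 2 ∣ orderOf g)
    (h13 : ¬ 13 ∣ orderOf g) : (D.B : G → ℂ) g = (D.A : G → ℂ) g + 1 := by
  have h1 := D.hrel g h13
  rw [D.W_eq_zero h hg] at h1
  linear_combination h1

omit [IsSimpleGroup G] in
theorem Data.not_dvd_centralizer (D : Data G) {t : G} (ht : orderOf t = 2)
    (hC13 : ∀ x : G, orderOf x = 13 → Nat.card (centralizer ({x} : Set G)) = 13) :
    ¬ 13 ∣ Nat.card (centralizer ({t} : Set G)) := by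
  intro h13
  have : Fact (Nat.Prime 13) := ⟨by norm_num⟩
  obtain ⟨x, hx⟩ := exists_prime_orderOf_dvd_card' (G := centralizer ({t} : Set G)) 13 h13
  have h9 := Subgroup.orderOf_dvd_natCard _
    (show t ∈ centralizer ({(x : G)} : Set G) from mem_centralizer_singleton_iff.2
      (mem_centralizer_singleton_iff.1 x.2).symm)
  rw [hC13 _ ((Subgroup.orderOf_coe x).trans hx), ht] at h9
  norm_num at h9

/-- Every involution has a centraliser of order forty-eight. -/
theorem Data.involution (D : Data G) (hna : ¬ IsMulCommutative G) (h : Nat.card G = 5616)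
    {t : G} (ht : orderOf t = 2) :
    Nat.card (centralizer ({t} : Set G)) = 48 ∧ (D.A : G → ℂ) t = 3 ∧ (D.B : G → ℂ) t = 4 := by
  classical
  have : Fact (Nat.Prime 13) := ⟨by norm_num⟩
  have h13 : ¬ 13 ∣ orderOf t := by rw [ht]; norm_num
  obtain ⟨a, ha⟩ := exists_int_apply_involution (Char.IsIrr.isCharacter D.A.2) ht
  have hb : (D.B : G → ℂ) t = ((a + 1 : ℤ) : ℂ) := by
    rw [D.B_eq h (by rw [ht]) h13, ha]; push_cast; rfl
  have hw := D.W_eq_zero h (g := t) (by rw [ht])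
  have hAd : (D.A : G → ℂ) 1 = ((27 : ℕ) : ℂ) := by rw [D.hA1]; norm_num
  have hne : (D.A : G → ℂ) ≠ fun _ => 1 := fun e => by
    have h1 := D.hA1
    rw [e] at h1
    norm_num at h1
  have hker : a ≠ 27 := fun e => by
    have h1 := (degree_facts hna D.A hne).2.2 t (by rw [ha, hAd, e]; norm_num)
    rw [h1, orderOf_one] at ht
    omega
  have habs := natAbs_apply_le (Char.IsIrr.isCharacter D.A.2) hAd ha
  have h4 := four_dvd_degree_sub_apply hna (Char.IsIrr.isCharacter D.A.2) ht hAd ha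
  -- no product of a conjugate of `t` with `z` is an involution
  obtain ⟨m, hm, hm0⟩ := mult_formula t D.z t
  have hzero : m = 0 := by
    by_contra h0
    obtain ⟨b, hb'⟩ := hm0 h0
    obtain ⟨c, hc⟩ := isConj_iff.1 hb'
    set u := b * t * b⁻¹ with hu
    have huo : orderOf u = 2 := by
      rw [hu, show b * t * b⁻¹ = MulAut.conj b t from rfl, MulEquiv.orderOf_eq, ht]
    have htt : t * t = 1 := by
      have := pow_orderOf_eq_one t
      rwa [ht, sq] at this
    have huu : u * u = 1 := by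
      have := pow_orderOf_eq_one u
      rwa [huo, sq] at this
    have huz : u * D.z * (u * D.z) = 1 := by
      have h1 : u * D.z = c⁻¹ * t * c := by rw [← hc]; group
      rw [h1]
      calc c⁻¹ * t * c * (c⁻¹ * t * c) = c⁻¹ * (t * t) * c := by group
        _ = 1 := by rw [htt]; group
    refine D.noinv u huo ?_
    rw [inv_eq_of_mul_eq_one_right huu]
    exact eq_inv_of_mul_eq_one_left (by rw [← huz]; group)
  rw [hzero, D.hone t t h13 h13, h] at hm
  simp only [ha, hb, hw, map_intCast, map_zero] at hm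
  have heq : 432 + 16 * a * a - 36 * (a + 1) * (a + 1) = 0 := by
    have : ((432 + 16 * a * a - 36 * (a + 1) * (a + 1) : ℤ) : ℂ) = ((0 : ℤ) : ℂ) := by
      push_cast at hm ⊢
      linear_combination hm / 13
    exact_mod_cast this
  obtain ⟨c, hc⟩ : ∃ c, Nat.card (centralizer ({t} : Set G)) = c := ⟨_, rfl⟩
  obtain ⟨m', hm', -⟩ := mult_formula t D.z D.z
  rw [D.hzz t h13, h, D.hzC, hc] at hm'
  simp only [ha, hb, hw] at hm'
  have hdvd : (432 + 16 * a + 36 * (a + 1)) % (c : ℤ) = 0 := by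
    refine Int.emod_eq_zero_of_dvd ⟨m', ?_⟩
    have : ((432 + 16 * a + 36 * (a + 1) : ℤ) : ℂ) = (((c : ℤ) * (m' : ℤ) : ℤ) : ℂ) := by
      push_cast at hm' ⊢
      linear_combination hm' / 13
    exact_mod_cast this
  have hq := D.hcol t h13
  rw [ha, hb, hw, hc] at hq
  have hq' : 1 + a * a + (a + 1) * (a + 1) ≤ (c : ℤ) := by
    simp only [map_zero, mul_zero, add_zero, ← Complex.ofReal_intCast, Complex.normSq_ofReal] at hq
    exact_mod_cast hq
  have hC13 : ∀ x : G, orderOf x = 13 → Nat.card (centralizer ({x} : Set G)) = 13 := by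
    intro x hx
    obtain ⟨Q, hQ⟩ := exists_sylow_eq_zpowers (q := 13) (m := 432) (by rw [h]) (by norm_num) hx
    have hsc := BlockThms.sylow_self_centralizing (G := G) 2 3 13 4 3 Nat.prime_two Nat.prime_three
      (by norm_num) (by norm_num) (by rw [h]; norm_num) Q
    rw [← centralizer_zpowers_eq, ← hQ,
      show centralizer ((Q : Subgroup G) : Set G) = (Q : Subgroup G) from hsc, hQ, Nat.card_zpowers,
      hx]
  have hc13 := D.not_dvd_centralizer ht hC13
  rw [hc] at hc13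
  have hc2 : 2 ∣ c := by
    rw [← hc, ← ht]
    exact Subgroup.orderOf_dvd_natCard _ (mem_centralizer_singleton_iff.2 rfl)
  have hcd : c ∈ Nat.divisors 5616 :=
    Nat.mem_divisors.2 ⟨by rw [← hc, ← h]; exact card_subgroup_dvd_card _, by norm_num⟩
  obtain ⟨r, hr, hra⟩ : ∃ r : ℕ, r < 55 ∧ a = (r : ℤ) - 27 := ⟨(a + 27).toNat, by omega, by omega⟩
  have ha1 : a + 1 = (r : ℤ) - 26 := by omega
  rw [ha1, hra] at heq hdvd hq'
  rw [hra] at h4
  obtain ⟨e1, e2⟩ := cent_check r hr (hra ▸ hker) (Int.emod_eq_zero_of_dvd h4) heq c hcd hc13 hc2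
    hq' hdvd
  rw [hc, ha, hb, hra, e1]
  exact ⟨e2, by norm_num, by norm_num⟩

/-- Elements of even order commuting with an involution `t`. -/
theorem Data.even_elem (D : Data G) (hna : ¬ IsMulCommutative G) (h : Nat.card G = 5616)
    {t g : G} (ht : orderOf t = 2) (hg : 2 ∣ orderOf g)
    (hle : centralizer ({g} : Set G) ≤ centralizer ({t} : Set G)) :
    (6 ∣ Nat.card (centralizer ({g} : Set G)) → Nat.card (centralizer ({g} : Set G)) = 6 ∨
      ((D.A : G → ℂ) g = 3 ∧ Nat.card (centralizer ({g} : Set G)) = 48)) ∧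
    (4 ∣ Nat.card (centralizer ({g} : Set G)) → (D.B : G → ℂ) g = 0 ∨
      Nat.card (centralizer ({g} : Set G)) = 48) := by
  classical
  obtain ⟨hc48, hAt, hBt⟩ := D.involution hna h ht
  have hgC : g ∈ centralizer ({g} : Set G) := mem_centralizer_singleton_iff.2 rfl
  have hg48 : orderOf g ∣ 48 := hc48 ▸ Subgroup.orderOf_dvd_natCard _ (hle hgC)
  have h13 : ¬ 13 ∣ orderOf g := not_thirteen_of_dvd hg48 (by norm_num)
  obtain ⟨c, hc⟩ : ∃ c, Nat.card (centralizer ({g} : Set G)) = c := ⟨_, rfl⟩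
  have hcd : c ∣ 48 := by rw [← hc, ← hc48]; exact card_dvd_of_le hle
  obtain ⟨m, hm, -⟩ := mult_formula t D.z g
  rw [D.hone t g (by rw [ht]; norm_num) h13, D.W_eq_zero h (g := t) (by rw [ht]), hAt, hBt,
    D.B_eq h hg h13, h, hc, hc48, map_add, map_one] at hm
  have hm' : conj ((D.A : G → ℂ) g) = (((78 - (c : ℚ) * m) / 26 : ℚ) : ℂ) := by
    push_cast at hm ⊢
    linear_combination (-(1 : ℂ) / 1248) * hm
  obtain ⟨a, ha⟩ : ∃ a : ℤ, (a : ℚ) = (78 - (c : ℚ) * m) / 26 := by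
    refine Char.exists_int_of_isIntegral_rat ?_
    rw [← hm', ← Char.IsChar.inv_eq_conj (Char.IsIrr.isCharacter D.A.2) g]
    exact Char.IsChar.isIntegral (Char.IsIrr.isCharacter D.A.2) g⁻¹
  have hAg : (D.A : G → ℂ) g = (a : ℂ) := by
    rw [← ha] at hm'
    have := congrArg (starRingEnd ℂ) hm'
    rw [Complex.conj_conj] at this
    rw [this]
    simp
  have hdvd : (13 * (6 - 2 * a)) % (c : ℤ) = 0 := by
    refine Int.emod_eq_zero_of_dvd ⟨m, ?_⟩
    have h1 : ((13 * (6 - 2 * a) : ℤ) : ℚ) = (((c : ℤ) * (m : ℤ) : ℤ) : ℚ) := by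
      push_cast
      rw [ha]
      ring
    exact_mod_cast h1
  have hq := D.hcol g h13
  rw [D.B_eq h hg h13, hAg, D.W_eq_zero h hg, hc] at hq
  have hq' : 1 + a * a + (a + 1) * (a + 1) ≤ (c : ℤ) := by
    rw [show (a : ℂ) + 1 = ((a + 1 : ℤ) : ℂ) by push_cast; rfl] at hq
    simp only [map_zero, mul_zero, add_zero, ← Complex.ofReal_intCast, Complex.normSq_ofReal] at hq
    exact_mod_cast hq
  have hc48' := Nat.le_of_dvd (by norm_num) hcd
  obtain ⟨r, hr, hra⟩ : ∃ r : ℕ, r < 15 ∧ a = (r : ℤ) - 7 := by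
    have h1 : a * a ≤ 47 := by nlinarith
    have h2 : -7 < a ∧ a < 8 := ⟨by nlinarith, by nlinarith⟩
    exact ⟨(a + 7).toNat, by omega, by omega⟩
  have ha1 : a + 1 = (r : ℤ) - 6 := by omega
  rw [ha1, hra] at hq'
  rw [hra] at hdvd
  obtain ⟨k1, k2⟩ := small_check c (Nat.mem_divisors.2 ⟨hcd, by norm_num⟩) r hr hq' hdvd
  rw [hc, hAg, D.B_eq h hg h13, hAg, hra]
  refine ⟨fun h6 => ?_, fun h4 => ?_⟩
  · rcases k1 h6 with k | ⟨k, k'⟩
    · exact Or.inl k
    · exact Or.inr ⟨by rw [k]; norm_num, k'⟩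
  · rcases k2 h4 with k | k
    · exact Or.inl (by rw [k]; norm_num)
    · exact Or.inr k

/-- The product of an involution and a commuting element of order three. -/
theorem Data.six (D : Data G) (hna : ¬ IsMulCommutative G) (h : Nat.card G = 5616)
    {t v : G} (ht : orderOf t = 2) (hv : orderOf v = 3) (htv : Commute t v) :
    Nat.card (centralizer ({t * v} : Set G)) = 6 := by
  classical
  have ho : orderOf (t * v) = 6 := by
    rw [htv.orderOf_mul_eq_mul_orderOf_of_coprime (by rw [ht, hv]; norm_num), ht, hv]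
  have h3 : (t * v) ^ 3 = t := by
    have e1 : t ^ 2 = 1 := ht ▸ pow_orderOf_eq_one t
    have e2 : v ^ 3 = 1 := hv ▸ pow_orderOf_eq_one v
    rw [htv.mul_pow, e2, mul_one, pow_succ, e1, one_mul]
  have hle : centralizer ({t * v} : Set G) ≤ centralizer ({t} : Set G) := fun x hx => by
    rw [mem_centralizer_singleton_iff] at hx ⊢
    nth_rw 1 [← h3]
    nth_rw 2 [← h3]
    exact (Commute.pow_right (show Commute x (t * v) from hx) 3).eq
  have h6 : 6 ∣ Nat.card (centralizer ({t * v} : Set G)) :=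
    ho ▸ Subgroup.orderOf_dvd_natCard _ (mem_centralizer_singleton_iff.2 rfl)
  rcases (D.even_elem hna h ht (by rw [ho]; norm_num) hle).1 h6 with h9 | ⟨hA, h48⟩
  · exact h9
  obtain ⟨hc48, hAt, hBt⟩ := D.involution hna h ht
  exfalso
  have hBu : (D.B : G → ℂ) (t * v) = 4 := by
    rw [D.B_eq h (by rw [ho]; norm_num) (by rw [ho]; norm_num), hA]; norm_num
  set one : IrrCharacter G := ⟨fun _ => 1, Char.isIrrCharacter_one⟩ with hone
  have n1 : one ∉ ({D.A, D.B} : Finset (IrrCharacter G)) := by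
    simp only [Finset.mem_insert, Finset.mem_singleton, not_or]
    constructor <;> intro e <;> have h1 := congrArg (fun χ : IrrCharacter G => (χ : G → ℂ) 1) e <;>
      simp only [hone, D.hA1, D.hB1] at h1 <;> norm_num at h1
  have n2 : D.A ∉ ({D.B} : Finset (IrrCharacter G)) := by
    rw [Finset.mem_singleton]
    intro e
    have h1 := congrArg (fun χ : IrrCharacter G => (χ : G → ℂ) 1) e
    simp only [D.hA1, D.hB1] at h1
    norm_num at h1
  set T : Finset (IrrCharacter G) := {one, D.A, D.B} with hT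
  set S := Finset.univ \ T with hS
  have hsum : ∀ f : IrrCharacter G → ℂ, ∑ χ, f χ = (f one + (f D.A + f D.B)) + ∑ χ ∈ S, f χ := by
    intro f
    rw [hS, ← Finset.sum_sdiff (Finset.subset_univ T), add_comm]
    congr 1
    rw [hT, Finset.sum_insert n1, Finset.sum_insert n2, Finset.sum_singleton]
  have hnc : ¬ IsConj t (t * v) := fun hc => by
    obtain ⟨c, hc⟩ := isConj_iff.1 hc
    have h2 : orderOf (t * v) = 2 := by
      rw [← hc, show c * t * c⁻¹ = MulAut.conj c t from rfl, MulEquiv.orderOf_eq, ht]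
    omega
  have e12 := Char.second_orthogonality t (t * v)
  rw [if_neg hnc, hsum] at e12
  have e11 := Char.second_orthogonality t t
  rw [if_pos (IsConj.refl t), hsum, hc48] at e11
  have e22 := Char.second_orthogonality (t * v) (t * v)
  rw [if_pos (IsConj.refl _), hsum, h48] at e22
  simp only [hone, hAt, hBt, hA, hBu, map_one, Complex.conj_ofNat] at e12 e11 e22
  have hnn : (0 : ℝ) ≤ (∑ χ ∈ S, ((χ : G → ℂ) t + (χ : G → ℂ) (t * v)) *
      conj ((χ : G → ℂ) t + (χ : G → ℂ) (t * v))).re := by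
    rw [Complex.re_sum]
    refine Finset.sum_nonneg fun χ _ => ?_
    rw [Complex.mul_conj, Complex.ofReal_re]
    exact Complex.normSq_nonneg _
  have hexp : ∑ χ ∈ S, ((χ : G → ℂ) t + (χ : G → ℂ) (t * v)) *
      conj ((χ : G → ℂ) t + (χ : G → ℂ) (t * v)) =
      (∑ χ ∈ S, (χ : G → ℂ) t * conj ((χ : G → ℂ) t)) +
      (∑ χ ∈ S, (χ : G → ℂ) (t * v) * conj ((χ : G → ℂ) (t * v))) +
      (∑ χ ∈ S, (χ : G → ℂ) t * conj ((χ : G → ℂ) (t * v))) +
      conj (∑ χ ∈ S, (χ : G → ℂ) t * conj ((χ : G → ℂ) (t * v))) := by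
    rw [map_sum, ← Finset.sum_add_distrib, ← Finset.sum_add_distrib, ← Finset.sum_add_distrib]
    refine Finset.sum_congr rfl fun χ _ => ?_
    rw [map_add, map_mul, Complex.conj_conj]
    ring
  push_cast at e11 e22
  have s11 : ∑ χ ∈ S, (χ : G → ℂ) t * conj ((χ : G → ℂ) t) = 22 := by linear_combination e11
  have s22 : ∑ χ ∈ S, (χ : G → ℂ) (t * v) * conj ((χ : G → ℂ) (t * v)) = 22 := by
    linear_combination e22
  have s12 : ∑ χ ∈ S, (χ : G → ℂ) t * conj ((χ : G → ℂ) (t * v)) = -26 := by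
    linear_combination e12
  rw [hexp, s11, s22, s12] at hnn
  norm_num at hnn

end Cfsg.Agent.SmallOrder.Order5616
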